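import Cfsg.Agent.ClassBoundSq.HeisBound

/-!
# Subgroups of a Heisenberg extension meeting the centre trivially
-/

set_option autoImplicit false
set_option maxHeartbeats 1000000

namespace Cfsg.Agent.BlockChar.SolvBound

open Cfsg.Agent.ClassBoundSq

universe u v

variable {K : Type u} [Field K] {C : Type v} [Group C] [Finite C] (H : Heis K C)

/-- The part of such a subgroup inside the normal subgroup is an isotropic subgroup of the quotient. -/
theorem exists_isotropic (S : Subgroup C) (hS : ∀ s ∈ S, s ∈ H.B → s = 1) :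
    ∃ A : Subgroup H.W, (∀ u, u ∈ A ↔ ∃ a : H.N, a.1 ∈ S ∧ (a : H.W) = u) ∧
      Nat.card A = Nat.card (S ⊓ H.N : Subgroup C) ∧ Nat.card A * Nat.card A ≤ Nat.card H.W := by
  let g : S.subgroupOf H.N →* H.W := (QuotientGroup.mk' (H.B.subgroupOf H.N)).comp (Subgroup.subtype _)
  have hg : Function.Injective g := (injective_iff_map_eq_one g).2 fun a ha =>
    Subtype.ext (Subtype.ext (hS _ a.2 ((QuotientGroup.eq_one_iff a.1).1 ha)))
  refine ⟨g.range, fun u => ⟨?_, ?_⟩, ?_, ?_⟩
  · rintro ⟨a, rfl⟩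
    exact ⟨a.1, a.2, rfl⟩
  · rintro ⟨a, ha, rfl⟩
    exact ⟨⟨a, ha⟩, rfl⟩
  · rw [← Nat.card_congr (MonoidHom.ofInjective hg).toEquiv]
    refine Nat.card_congr
      { toFun := fun a => ⟨a.1.1, a.2, a.1.2⟩
        invFun := fun a => ⟨⟨a.1, a.2.2⟩, a.2.1⟩
        left_inv := fun a => rfl
        right_inv := fun a => rfl }
  · have hiso : ∀ u ∈ g.range, ∀ v ∈ g.range, H.pair u v = 1 := by
      rintro _ ⟨a, rfl⟩ _ ⟨b, rfl⟩
      show H.pair (a.1 : H.W) (b.1 : H.W) = 1
      rw [H.pair_mk]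
      have h : H.br a.1 b.1 = 1 := Subtype.ext (hS _
        (S.mul_mem (S.mul_mem (S.mul_mem a.2 b.2) (S.inv_mem a.2)) (S.inv_mem b.2)) (H.br a.1 b.1).2)
      rw [h, map_one]
    have hker : ∀ u : g.range, g.range ≤ (H.pair u.1).ker := fun u v hv => hiso u.1 u.2 v hv
    haveI := (card_hom_le (H.W ⧸ g.range) K).1
    have h1 : Nat.card g.range ≤ Nat.card (H.W ⧸ g.range) := by
      refine le_trans (Nat.card_le_card_of_injective
        (fun u : g.range => QuotientGroup.lift g.range (H.pair u.1) (hker u)) fun u v h => ?_)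
        (card_hom_le (H.W ⧸ g.range) K).2
      exact Subtype.ext (H.pair_inj (MonoidHom.ext fun w => DFunLike.congr_fun h (w : H.W ⧸ g.range)))
    calc Nat.card g.range * Nat.card g.range ≤ Nat.card (H.W ⧸ g.range) * Nat.card g.range :=
          Nat.mul_le_mul_right _ h1
      _ = _ := (Subgroup.card_eq_card_quotient_mul_card_subgroup g.range).symm

/-- Counting a subgroup by its image in the automorphisms of the quotient. -/
theorem card_eq_image_mul (S : Subgroup C) :
    Nat.card S = Nat.card (S.map H.conj) * Nat.card (S ⊓ H.N : Subgroup C) := by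
  let f : S →* MulAut H.W := H.conj.comp S.subtype
  have hr : f.range = S.map H.conj := by
    rw [MonoidHom.range_eq_map, ← Subgroup.map_map, ← MonoidHom.range_eq_map, Subgroup.range_subtype]
  have hk : f.ker = H.N.subgroupOf S := by rw [← MonoidHom.comap_ker, H.conj_ker]; rfl
  have e : Nat.card f.ker = Nat.card (S ⊓ H.N : Subgroup C) := by
    rw [hk, ← Subgroup.inf_subgroupOf_left]
    exact Nat.card_congr (Subgroup.subgroupOfEquivOfLe inf_le_left).toEquiv
  rw [← hr, ← e, ← Subgroup.index_ker, mul_comm, Subgroup.card_mul_index]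

/-- Two generators of a quotient whose order is the square of a prime. -/
theorem closure_eq_top {e : ℕ} (he : e.Prime) (hw : Nat.card H.W = e ^ 2) {u : H.W} (hu : u ≠ 1) :
    ∃ v, Subgroup.closure ({u, v} : Set H.W) = ⊤ := by
  haveI := Fact.mk he
  have hord : orderOf u = e := orderOf_eq_prime (H.exponent_eq he hw u) hu
  obtain ⟨v, hv⟩ : ∃ v, v ∉ Subgroup.zpowers u := by
    by_contra h
    push Not at h
    have h2 : Nat.card H.W ≤ Nat.card (Subgroup.zpowers u) :=
      Nat.card_le_card_of_injective (fun v => ⟨v, h v⟩) fun a b e => congrArg Subtype.val e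
    rw [Nat.card_zpowers, hord, hw] at h2
    have := he.two_le
    nlinarith
  refine ⟨v, ?_⟩
  have hle : Subgroup.zpowers u ≤ Subgroup.closure ({u, v} : Set H.W) :=
    Subgroup.zpowers_le.2 (Subgroup.subset_closure (by simp))
  obtain ⟨i, hi, hci⟩ :=
    (Nat.dvd_prime_pow he).1 (hw ▸ (Subgroup.closure ({u, v} : Set H.W)).card_subgroup_dvd_card)
  apply Subgroup.eq_top_of_card_eq
  rw [hw, hci]
  by_contra hne
  have hi2 : i ≤ 1 := by
    by_contra h
    exact hne (by rw [show i = 2 by omega])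
  have hle' : Nat.card (Subgroup.closure ({u, v} : Set H.W)) ≤ Nat.card (Subgroup.zpowers u) := by
    rw [hci, Nat.card_zpowers, hord]
    exact (Nat.pow_le_pow_right he.one_lt.le hi2).trans (pow_one e).le
  exact hv ((Subgroup.eq_of_le_of_card_ge hle hle').symm ▸ Subgroup.subset_closure (by simp))

/-- Automorphisms preserving the form and fixing a nontrivial element. -/
theorem card_fix_le {e : ℕ} (he : e.Prime) (hw : Nat.card H.W = e ^ 2) {u : H.W} (hu : u ≠ 1)
    (Q : Subgroup (MulAut H.W)) (hQ : Q ≤ H.conj.range) (hfix : ∀ φ ∈ Q, φ u = u) : Nat.card Q ≤ e := by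
  obtain ⟨v, hv⟩ := closure_eq_top H he hw hu
  refine le_trans (Nat.card_le_card_of_injective
    (fun φ : Q => (⟨φ.1 v, by
      have h := H.pair_fix (hQ φ.2) u v
      rwa [hfix φ.1 φ.2] at h⟩ : {b : H.W // H.pair u b = H.pair u v})) fun φ ψ h => ?_)
    ((H.card_pair_fibre u _).trans ((H.ker_pair hu).2 e he hw))
  refine Subtype.ext (Heis.aut_eq_of_closure hv ?_)
  rintro a (rfl | rfl)
  exacts [(hfix φ.1 φ.2).trans (hfix ψ.1 ψ.2).symm, congrArg Subtype.val h]

/-- The order of the automorphism group induced on a quotient of order `e ^ 2`, `e` prime. -/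
theorem range_le_prime {e : ℕ} (he : e.Prime) (hw : Nat.card H.W = e ^ 2) :
    Nat.card H.conj.range ≤ (e ^ 2 - 1) * e := by
  classical
  haveI := Fintype.ofFinite H.W
  haveI : Nontrivial H.W := Finite.one_lt_card_iff_nontrivial.1 (hw ▸ Nat.one_lt_pow two_ne_zero he.one_lt)
  obtain ⟨u, hu⟩ := exists_ne (1 : H.W)
  obtain ⟨v, hv⟩ := closure_eq_top H he hw hu
  let f : H.conj.range → Σ a : {a : H.W // a ≠ 1}, {b : H.W // H.pair a.1 b = H.pair u v} := fun φ =>
    ⟨⟨φ.1 u, (map_ne_one_iff φ.1 φ.1.injective).2 hu⟩, ⟨φ.1 v, H.pair_fix φ.2 u v⟩⟩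
  have hf : Function.Injective f := fun φ ψ h => by
    refine Subtype.ext (Heis.aut_eq_of_closure hv ?_)
    rintro a (rfl | rfl)
    · exact congrArg (fun z => (z.1 : H.W)) h
    · exact congrArg (fun z => (z.2 : H.W)) h
  refine (Nat.card_le_card_of_injective f hf).trans ?_
  rw [Nat.card_sigma]
  refine (Finset.sum_le_card_nsmul _ _ e fun a _ =>
    (H.card_pair_fibre a.1 _).trans ((H.ker_pair a.2).2 e he hw)).trans ?_
  rw [smul_eq_mul, Finset.card_univ, Fintype.card_subtype_compl, Fintype.card_subtype_eq,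
    ← Nat.card_eq_fintype_card, hw]

theorem pow_seven_le : ∀ e, 7 ≤ e → e ^ 7 ≤ 4 * 9 ^ (e - 1) := by
  intro e he
  induction e, he using Nat.le_induction with
  | base => norm_num
  | succ e he ih =>
    have h1 : (e + 1) ^ 7 * 7 ^ 7 ≤ e ^ 7 * 8 ^ 7 := by
      rw [← mul_pow, ← mul_pow]; exact Nat.pow_le_pow_left (by omega) 7
    rw [show e + 1 - 1 = (e - 1) + 1 by omega, pow_succ 9]
    generalize (e + 1) ^ 7 = A, e ^ 7 = B, 9 ^ (e - 1) = D at *
    norm_num at h1
    omega

/-- The bound on a subgroup meeting the centre trivially. -/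
theorem card_le_nine (S : Subgroup C) (hS : ∀ s ∈ S, s ∈ H.B → s = 1) {e : ℕ} (he : 0 < e)
    (hw : Nat.card H.W = e ^ 2) (h72 : Nat.card H.W = 4 ^ 2 → Nat.card H.conj.range ≤ 72)
    (hbase : ∃ x y z : H.W, ∀ φ ∈ H.conj.range, φ x = x → φ y = y → φ z = z → φ = 1) :
    (e = 1 → Nat.card S = 1) ∧ (e = 2 → Nat.card S ≤ 12) ∧ (3 ≤ e → Nat.card S ≤ 9 ^ (e - 1)) := by
  obtain ⟨A, -, hAc, hAW⟩ := exists_isotropic H S hS
  have hA : Nat.card A ≤ e := by
    rw [hw, sq] at hAW
    exact Nat.mul_self_le_mul_self_iff.1 hAW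
  have hS' : Nat.card S ≤ Nat.card H.conj.range * e := by
    rw [card_eq_image_mul H S, ← hAc]
    exact Nat.mul_le_mul (Subgroup.card_le_of_le (Subgroup.map_le_range _ _)) hA
  refine ⟨fun h1 => ?_, fun h2 => ?_, fun h3 => hS'.trans ?_⟩
  · subst h1
    haveI : Subsingleton H.W := (Nat.card_eq_one_iff_unique.1 (hw.trans (one_pow 2))).1
    have h : Nat.card H.conj.range ≤ 1 :=
      Finite.card_le_one_iff_subsingleton.2 ⟨fun φ ψ =>
        Subtype.ext (MulEquiv.ext fun w => Subsingleton.elim _ _)⟩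
    have : 0 < Nat.card S := Nat.card_pos
    have := Nat.mul_le_mul_right 1 h
    omega
  · subst h2
    refine hS'.trans ((Nat.mul_le_mul_right _ (range_le_prime H Nat.prime_two hw)).trans (by norm_num))
  · rcases (show e = 3 ∨ e = 4 ∨ e = 5 ∨ e = 6 ∨ 7 ≤ e by omega) with rfl | rfl | rfl | rfl | h7
    · exact (Nat.mul_le_mul_right _ (range_le_prime H Nat.prime_three hw)).trans (by norm_num)
    · exact (Nat.mul_le_mul_right _ (h72 hw)).trans (by norm_num)
    · exact (Nat.mul_le_mul_right _ (H.range_le_five hw)).trans (by norm_num)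
    · exact (Nat.mul_le_mul_right _ (H.range_le_six hw)).trans (by norm_num)
    · obtain ⟨x, y, z, hxyz⟩ := hbase
      have h := H.range_le_base (hw ▸ Nat.one_lt_pow two_ne_zero (by omega)) x y z hxyz
      rw [hw, ← pow_mul] at h
      have h' := pow_seven_le e h7
      rw [show e ^ 7 = e ^ (2 * 3) * e from pow_succ e 6] at h'
      have h4 := Nat.mul_le_mul_right e h
      rw [mul_assoc] at h4
      omega

/-- An abelian subgroup meeting the centre trivially in dimension two. -/
theorem card_le_six (S : Subgroup C) (hS : ∀ s ∈ S, s ∈ H.B → s = 1)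
    (hc : ∀ a ∈ S, ∀ b ∈ S, a * b = b * a) (hw : Nat.card H.W = 2 ^ 2) : Nat.card S ≤ 6 := by
  obtain ⟨A, hAmem, hAc, hAW⟩ := exists_isotropic H S hS
  have hA : Nat.card A ≤ 2 := by
    rw [hw, sq] at hAW
    exact Nat.mul_self_le_mul_self_iff.1 hAW
  have hR := range_le_prime H Nat.prime_two hw
  rw [card_eq_image_mul H S, ← hAc]
  by_cases h1 : A = ⊥
  · rw [h1, Subgroup.card_bot, mul_one]
    exact (Subgroup.card_le_of_le (Subgroup.map_le_range _ _)).trans (hR.trans (by norm_num))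
  obtain ⟨u, huA, hu⟩ := (Subgroup.ne_bot_iff_exists_ne_one.1 h1).elim fun x hx =>
    (⟨x.1, x.2, fun h => hx (Subtype.ext h)⟩ : ∃ u, u ∈ A ∧ u ≠ 1)
  obtain ⟨a, ha, rfl⟩ := (hAmem u).1 huA
  refine le_trans (Nat.mul_le_mul (card_fix_le H Nat.prime_two hw hu (S.map H.conj) (Subgroup.map_le_range _ _) ?_) hA)
    (by norm_num)
  rintro _ ⟨s, hs, rfl⟩
  rw [H.conj_mk]
  congr 1
  exact Subtype.ext (show s * a.1 * s⁻¹ = a.1 by rw [hc s hs a.1 ha, mul_inv_cancel_right])

end Cfsg.Agent.BlockChar.SolvBound
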