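import Cfsg.Agent.ClassBoundSq.Linear
import Cfsg.Agent.BlockChar.SolvBound.Heis

/-!
# Vector stabilisers in primitive solvable coprime linear groups
-/

set_option autoImplicit false
set_option maxHeartbeats 1000000

namespace Cfsg.Agent.BlockChar.SolvBound

open Cfsg.Agent.ClassBoundSq BaseTwo BaseTwo.Setting MulAction

universe u

theorem succ_le_nine_pow : ∀ b : ℕ, b + 1 ≤ 9 ^ b
  | 0 => le_rfl
  | b + 1 => by rw [pow_succ]; have := succ_le_nine_pow b; omega

theorem mul_pow_le {a b e : ℕ} (he : 1 ≤ e) (hb : 0 < b) (h : b * e ≤ a) :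
    b * 9 ^ (e - 1) ≤ 9 ^ (a - 1) := by
  obtain ⟨c, rfl⟩ : ∃ c, b = c + 1 := ⟨b - 1, by omega⟩
  obtain ⟨f, rfl⟩ : ∃ f, e = f + 1 := ⟨e - 1, by omega⟩
  calc (c + 1) * 9 ^ (f + 1 - 1) ≤ 9 ^ c * 9 ^ f := Nat.mul_le_mul (succ_le_nine_pow c) (by simp)
    _ = 9 ^ (c + f) := (pow_add _ _ _).symm
    _ ≤ _ := Nat.pow_le_pow_right (by norm_num) (by
        have : c + f + 1 ≤ (c + 1) * (f + 1) := by ring_nf; omega
        omega)

theorem six_mul_le : ∀ a, 3 ≤ a → 6 * a ≤ 9 ^ (a - 1) := by
  intro a ha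
  induction a, ha using Nat.le_induction with
  | base => norm_num
  | succ a ha ih =>
    rw [show a + 1 - 1 = (a - 1) + 1 by omega, pow_succ]
    omega

/-- A point stabiliser of a coprime linear group of dimension two is abelian. -/
theorem stabilizer_comm (p : ℕ) [Fact p.Prime] {V H : Type u} [AddCommGroup V] [Finite V] [Group H] [Finite H]
    [DistribMulAction H V] (hf : ∀ h : H, (∀ v : V, h • v = v) → h = 1) (hp : ∀ v : V, p • v = 0)
    (hcop : (Nat.card H).Coprime p) (hV : Nat.card V = p ^ 2) {v : V} (hv : v ≠ 0) :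
    ∀ g ∈ stabilizer H v, ∀ h ∈ stabilizer H v, g * h = h * g := by
  have hpp : p.Prime := Fact.out
  obtain ⟨W, hW, hdisj, hsup⟩ := BaseTwo.Reduce.exists_complement (G := stabilizer H v) p hp
    (Nat.Coprime.coprime_dvd_left (Subgroup.card_subgroup_dvd_card _) hcop) (AddSubgroup.zmultiples v) (by
      rintro g _ ⟨i, rfl⟩
      refine ⟨i, ?_⟩
      show i • v = g • (i • v)
      rw [show g • (i • v) = i • (g.1 • v) from map_zsmul (DistribMulAction.toAddMonoidHom V g.1) i v, g.2])
  have ho : ∀ w : V, w ≠ 0 → Nat.card (AddSubgroup.zmultiples w) = p := fun w hw => by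
    rw [Nat.card_zmultiples, addOrderOf_eq_prime (hp w) hw]
  have hcW : Nat.card W = p := by
    have h : Nat.card (AddSubgroup.zmultiples v × W) = Nat.card V :=
      Nat.card_eq_of_bijective (fun x => x.1.1 + x.2.1) ⟨fun x y e => by
        simp only at e
        have h1 : (x.1 : V) - y.1 = y.2 - x.2 := by linear_combination (norm := abel) e
        have h2 : (x.1 : V) - y.1 = 0 :=
          hdisj _ (AddSubgroup.sub_mem _ x.1.2 y.1.2) (h1 ▸ W.sub_mem y.2.2 x.2.2)
        exact Prod.ext (Subtype.ext (sub_eq_zero.1 h2))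
          (Subtype.ext (sub_eq_zero.1 (h1.symm.trans h2)).symm), fun z => by
        obtain ⟨a, ha, b, hb, e⟩ := hsup z
        exact ⟨(⟨a, ha⟩, ⟨b, hb⟩), e⟩⟩
    rw [Nat.card_prod, ho v hv, hV, sq] at h
    exact Nat.eq_of_mul_eq_mul_left hpp.pos h
  haveI : Nontrivial W := Finite.one_lt_card_iff_nontrivial.1 (hcW ▸ hpp.one_lt)
  obtain ⟨w, hw⟩ := exists_ne (0 : W)
  have hWw : AddSubgroup.zmultiples w.1 = W := AddSubgroup.eq_of_le_of_card_ge
    (AddSubgroup.zmultiples_le.2 w.2) (by rw [hcW, ho w.1 fun e => hw (Subtype.ext e)])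
  intro g hg h hh
  obtain ⟨i, hi⟩ : g • w.1 ∈ AddSubgroup.zmultiples w.1 := hWw.symm ▸ hW ⟨g, hg⟩ w.1 w.2
  obtain ⟨j, hj⟩ : h • w.1 ∈ AddSubgroup.zmultiples w.1 := hWw.symm ▸ hW ⟨h, hh⟩ w.1 w.2
  have hz : ∀ (x : H) (k : ℤ) (z : V), x • (k • z) = k • (x • z) := fun x k z =>
    map_zsmul (DistribMulAction.toAddMonoidHom V x) k z
  refine (inv_mul_eq_one.1 (hf _ fun z => ?_)).symm
  rw [mul_smul, inv_smul_eq_iff]
  obtain ⟨a, ⟨k, rfl⟩, b, hb, rfl⟩ := hsup z
  obtain ⟨l, rfl⟩ : b ∈ AddSubgroup.zmultiples w.1 := hWw.symm ▸ hb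
  simp only [mul_smul, smul_add, hz]
  rw [show g • v = v from hg, show h • v = v from hh, show g • v = v from hg, ← hi, ← hj, hz, hz,
    ← hi, ← hj, smul_comm i j]

/-- The field case. -/
theorem field_stabilizer (p : ℕ) [Fact p.Prime] (V H : Type u) [AddCommGroup V] [Finite V] [Group H] [Finite H]
    [Group.IsSolvable H] [DistribMulAction H V] [Nontrivial V] (K : Type u) [Field K] [Finite K] [Module K V]
    (T : Setting K V H) (hexp : ∀ v : V, p • v = 0) (hcop : (Nat.card H).Coprime p) {a : ℕ}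
    (hV : Nat.card V = p ^ a) {v : V} (hv : v ≠ 0) : Nat.card (stabilizer H v) ≤ 9 ^ (a - 1) := by
  have hp : p.Prime := Fact.out
  haveI : FiniteDimensional K V := Module.Finite.of_finite
  have hV' := Module.natCard_eq_pow_finrank (K := K) (V := V)
  set d := Module.finrank K V with hd'
  have hd : 0 < d := Module.finrank_pos
  obtain ⟨b, -, hb⟩ := (Nat.dvd_prime_pow hp).1 (hV ▸ hV' ▸ dvd_pow_self (Nat.card K) hd.ne')
  rw [hV, hb, ← pow_mul] at hV'
  have hab : a = b * d := Nat.pow_right_injective hp.two_le hV'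
  have hb0 : 0 < b := Nat.pos_of_ne_zero fun e => by
    have := Finite.one_lt_card (α := K)
    rw [hb, e, pow_zero] at this
    omega
  obtain ⟨e, he0, hw⟩ := (heis T).exists_sq
  have hed : e ≤ d := (Nat.pow_le_pow_iff_left two_ne_zero).1 (hw ▸ card_W_le T)
  have hbe : b * e ≤ a := hab ▸ Nat.mul_le_mul_left b hed
  let S : Subgroup T.C := (stabilizer H v).subgroupOf T.C
  have hS : ∀ s ∈ S, s ∈ (heis T).B → s = 1 := by
    intro s hs hsB
    obtain ⟨k, hk⟩ := T.scalar s.1 hsB
    have h1 : k • v = v := (hk v).symm.trans hs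
    have hk1 : k = 1 := by
      by_contra hne
      have h2 : (k - 1) • v = 0 := by rw [sub_smul, one_smul, h1, sub_self]
      exact hv ((smul_eq_zero.1 h2).resolve_left (sub_ne_zero.2 hne))
    exact Subtype.ext (T.faithful _ fun z => by rw [hk, hk1, one_smul])
  have hidx : Nat.card (stabilizer H v) ≤ b * Nat.card S := by
    rw [← Subgroup.card_mul_index (T.C.subgroupOf (stabilizer H v)), mul_comm]
    refine Nat.mul_le_mul ?_ (le_of_eq ?_)
    · refine le_trans ?_ (index_le T hb)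
      exact Nat.le_of_dvd (Nat.pos_of_ne_zero Subgroup.index_ne_zero_of_finite)
        (haveI : T.C.Normal := by haveI := T.normal; unfold Setting.C; infer_instance
         Subgroup.relIndex_dvd_index_of_normal T.C (stabilizer H v))
    · exact Nat.card_congr
        { toFun := fun x => ⟨⟨x.1.1, x.2⟩, x.1.2⟩
          invFun := fun x => ⟨⟨x.1.1, x.2⟩, x.1.2⟩
          left_inv := fun x => rfl
          right_inv := fun x => rfl }
  obtain ⟨h1, h2, h3⟩ := card_le_nine (heis T) S hS he0 hw (field_h72 T) (field_hbase T)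
  rcases (show e = 1 ∨ e = 2 ∨ 3 ≤ e by omega) with rfl | rfl | he3
  · refine hidx.trans ?_
    rw [h1 rfl, mul_one]
    exact le_trans (le_of_eq (by simp)) (mul_pow_le le_rfl hb0 hbe)
  · rcases (show a = 2 ∨ 3 ≤ a by omega) with rfl | ha3
    · have hb1 : b = 1 := by omega
      have hc := stabilizer_comm p T.faithful hexp hcop hV hv
      have h6 := card_le_six (heis T) S hS (fun x hx y hy => Subtype.ext (hc x.1 hx y.1 hy)) hw
      refine hidx.trans ?_
      rw [hb1, one_mul]
      exact h6.trans (by norm_num)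
    · have h12 := Nat.mul_le_mul_left b (h2 rfl)
      have := six_mul_le a ha3
      omega
  · exact hidx.trans ((Nat.mul_le_mul_left b (h3 he3)).trans (mul_pow_le (by omega) hb0 hbe))

end Cfsg.Agent.BlockChar.SolvBound
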