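import Cfsg.Agent.ClassBoundSq.Induct
import Cfsg.Agent.BlockChar.SolvBound.Field

/-!
# A vector with a small stabiliser in a solvable coprime linear group
-/

set_option autoImplicit false
set_option maxHeartbeats 1000000

namespace Cfsg.Agent.BlockChar.SolvBound

open Cfsg.Agent.ClassBoundSq BaseTwo BaseTwo.Reduce MulAction

universe u

theorem le_nine_of_sq_le {s r : ℕ} (hr : 2 ≤ r) (h : s ^ 2 ≤ 6 * 10 ^ (r - 2)) : s ≤ 9 ^ (r - 1) := by
  refine (Nat.pow_le_pow_iff_left two_ne_zero).1 (h.trans ?_)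
  rw [← pow_mul]
  obtain ⟨t, rfl⟩ := Nat.exists_eq_add_of_le' hr
  rw [Nat.add_sub_cancel, show t + 2 - 1 = t + 1 by omega, show (t + 1) * 2 = 2 * t + 2 by ring, pow_add,
    pow_mul, mul_comm]
  exact Nat.mul_le_mul (Nat.pow_le_pow_left (by norm_num) t) (by norm_num)

/-- Some vector has stabiliser of order at most `9 ^ (a - 1)`. -/
theorem small_stabilizer (p : ℕ) [Fact p.Prime] : ∀ (a : ℕ) (V : Type u) [AddCommGroup V] [Finite V]
    (H : Type u) [Group H] [Finite H] [Group.IsSolvable H] [DistribMulAction H V],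
    (∀ h : H, (∀ v : V, h • v = v) → h = 1) → (∀ v : V, p • v = 0) → (Nat.card H).Coprime p →
    Nat.card V = p ^ a → ∃ v : V, Nat.card (stabilizer H v) ≤ 9 ^ (a - 1) := by
  intro a
  induction a using Nat.strong_induction_on with
  | _ a ih =>
  intro V _ _ H _ _ _ _ hf hexp hcop hV
  classical
  have hp : p.Prime := Fact.out
  rcases Nat.eq_zero_or_pos a with rfl | ha
  · haveI : Subsingleton V := (Nat.card_eq_one_iff_unique.1 (hV.trans (pow_zero p))).1
    haveI : Subsingleton H := ⟨fun g h => (hf g fun v => Subsingleton.elim _ _).trans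
      (hf h fun v => Subsingleton.elim _ _).symm⟩
    exact ⟨0, by rw [Nat.card_of_subsingleton (1 : stabilizer H (0 : V))]; simp⟩
  haveI : Nontrivial V := Finite.one_lt_card_iff_nontrivial.1 (hV ▸ Nat.one_lt_pow ha.ne' hp.one_lt)
  have key : ∀ (G' : Subgroup H) (S : AddSubgroup V) (hS : ∀ g : G', ∀ u ∈ S, g • u ∈ S),
      ∀ b, b < a → Nat.card S = p ^ b →
      letI := subAction (G := G') S hS
      letI : DistribMulAction (toPermHom G' S).range S := imgAction (A := G') (Ω := S)
      ∃ x : S, Nat.card (stabilizer (toPermHom G' S).range x) ≤ 9 ^ (b - 1) := by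
    intro G' S hS b hb hcard
    letI := subAction (G := G') S hS
    letI : DistribMulAction (toPermHom G' S).range S := imgAction (A := G') (Ω := S)
    haveI : Group.IsSolvable (toPermHom G' S).range := img_solvable (A := G') (Ω := S)
    exact ih b hb S _ (fun h hh => Subtype.ext (Equiv.ext hh))
      (fun x => Subtype.ext (by rw [AddSubgroup.coe_nsmul]; exact hexp x.1))
      (Nat.Coprime.coprime_dvd_left ((Subgroup.card_range_dvd _).trans (Subgroup.card_subgroup_dvd_card G')) hcop)
      hcard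
  by_cases hirr : ∀ U : AddSubgroup V, (∀ g : H, ∀ u ∈ U, g • u ∈ U) → U = ⊥ ∨ U = ⊤
  swap
  · push Not at hirr
    obtain ⟨U, hU, hU0, hU1⟩ := hirr
    obtain ⟨W, hW, hinf, hsup⟩ := exists_complement p hexp hcop U hU
    have hW0 : W ≠ ⊥ := fun h => hU1 ((AddSubgroup.eq_top_iff' U).2 fun z => by
      obtain ⟨x, hx, y, hy, rfl⟩ := hsup z
      rw [h, AddSubgroup.mem_bot] at hy
      rw [hy, add_zero]
      exact hx)
    have hd : ∀ S : AddSubgroup V, S ≠ ⊥ → ∃ b, 0 < b ∧ Nat.card S = p ^ b := fun S hS => by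
      obtain ⟨b, -, hb⟩ := (Nat.dvd_prime_pow hp).1 (hV ▸ S.card_addSubgroup_dvd_card)
      refine ⟨b, Nat.pos_of_ne_zero fun e => hS (AddSubgroup.eq_bot_of_card_eq S ?_), hb⟩
      rw [hb, e, pow_zero]
    obtain ⟨a₁, ha₁, hcU⟩ := hd U hU0
    obtain ⟨a₂, ha₂, hcW⟩ := hd W hW0
    have huniq : ∀ x ∈ U, ∀ y ∈ W, ∀ x' ∈ U, ∀ y' ∈ W, x + y = x' + y' → x = x' ∧ y = y' := by
      intro x hx y hy x' hx' y' hy' e
      have h1 : x - x' = y' - y := by linear_combination (norm := abel) e
      have h2 : x - x' = 0 := hinf _ (U.sub_mem hx hx') (h1 ▸ W.sub_mem hy' hy)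
      exact ⟨sub_eq_zero.1 h2, (sub_eq_zero.1 (h1.symm.trans h2)).symm⟩
    have hab : a = a₁ + a₂ := by
      have h : Nat.card (U × W) = Nat.card V := Nat.card_eq_of_bijective (fun x => x.1.1 + x.2.1) ⟨
        fun x y e => by
          obtain ⟨e1, e2⟩ := huniq _ x.1.2 _ x.2.2 _ y.1.2 _ y.2.2 e
          exact Prod.ext (Subtype.ext e1) (Subtype.ext e2),
        fun v => by
          obtain ⟨x, hx, y, hy, e⟩ := hsup v
          exact ⟨(⟨x, hx⟩, ⟨y, hy⟩), e⟩⟩
      rw [Nat.card_prod, hcU, hcW, hV, ← pow_add] at h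
      exact (Nat.pow_right_injective hp.two_le h).symm
    have hUt : ∀ g : (⊤ : Subgroup H), ∀ u ∈ U, g • u ∈ U := fun g u hu => hU g.1 u hu
    have hWt : ∀ g : (⊤ : Subgroup H), ∀ u ∈ W, g • u ∈ W := fun g u hu => hW g.1 u hu
    obtain ⟨x, hx⟩ := key ⊤ U hUt a₁ (by omega) hcU
    obtain ⟨y, hy⟩ := key ⊤ W hWt a₂ (by omega) hcW
    letI := subAction (G := (⊤ : Subgroup H)) U hUt
    letI := subAction (G := (⊤ : Subgroup H)) W hWt
    letI : DistribMulAction (toPermHom (⊤ : Subgroup H) U).range U := imgAction (A := (⊤ : Subgroup H)) (Ω := U)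
    letI : DistribMulAction (toPermHom (⊤ : Subgroup H) W).range W := imgAction (A := (⊤ : Subgroup H)) (Ω := W)
    have hsplit : ∀ g : stabilizer H (x.1 + y.1), g.1 • x.1 = x.1 ∧ g.1 • y.1 = y.1 := fun g =>
      huniq _ (hU _ _ x.2) _ (hW _ _ y.2) _ x.2 _ y.2 ((smul_add _ _ _).symm.trans g.2)
    refine ⟨x.1 + y.1, ?_⟩
    refine le_trans (Nat.card_le_card_of_injective (fun g : stabilizer H (x.1 + y.1) =>
      ((⟨(toPermHom (⊤ : Subgroup H) U).rangeRestrict ⟨g.1, trivial⟩, Subtype.ext (hsplit g).1⟩ :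
          stabilizer (toPermHom (⊤ : Subgroup H) U).range x),
        (⟨(toPermHom (⊤ : Subgroup H) W).rangeRestrict ⟨g.1, trivial⟩, Subtype.ext (hsplit g).2⟩ :
          stabilizer (toPermHom (⊤ : Subgroup H) W).range y))) fun g k e => ?_) ?_
    · refine Subtype.ext (inv_mul_eq_one.1 (hf _ fun z => ?_)).symm
      obtain ⟨a', ha', b', hb', rfl⟩ := hsup z
      have h1 := congrArg (fun z => ((z.1.1.1 : Equiv.Perm U) ⟨a', ha'⟩).1) e
      have h2 := congrArg (fun z => ((z.2.1.1 : Equiv.Perm W) ⟨b', hb'⟩).1) e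
      rw [mul_smul, inv_smul_eq_iff, smul_add, smul_add, show g.1 • a' = k.1 • a' from h1,
        show g.1 • b' = k.1 • b' from h2]
    · rw [Nat.card_prod]
      refine (Nat.mul_le_mul hx hy).trans ?_
      rw [← pow_add]
      exact Nat.pow_le_pow_right (by norm_num) (by omega)
  by_cases hfd : ∀ B : Subgroup H, B.Normal → (∀ x ∈ B, ∀ y ∈ B, x * y = y * x) → IsField (ringOf V B)
  · obtain ⟨B, ⟨hBn, hBc⟩, hmax⟩ := Set.Finite.exists_maximal
      (Set.toFinite {B : Subgroup H | B.Normal ∧ ∀ x ∈ B, ∀ y ∈ B, x * y = y * x})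
      ⟨⊥, inferInstance, fun x hx y hy => by rw [Subgroup.mem_bot.1 hx, Subgroup.mem_bot.1 hy]⟩
    letI : Field (ringOf V B) := (hfd B hBn hBc).toField
    haveI : Finite (AddMonoid.End V) := Finite.of_injective _ DFunLike.coe_injective
    obtain ⟨v, hv⟩ := exists_ne (0 : V)
    exact ⟨v, field_stabilizer p V H (ringOf V B)
      { σ := conj hBn
        semi := fun g c z => conj_smul hBn g c z
        B := B
        normal := hBn
        comm := hBc
        maxi := fun N hN hc hle => le_antisymm (hmax ⟨hN, hc⟩ hle) hle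
        scalar := fun b hb => ⟨⟨_, Subring.subset_closure ⟨b, hb, rfl⟩⟩, fun v => rfl⟩
        refl_of_cent := fun g hg => RingEquiv.ext fun x => Subtype.ext (by
          show ρ V H g * x.1 * ρ V H g⁻¹ = x.1
          have h : ρ V H g * x.1 = x.1 * ρ V H g := by
            obtain ⟨x, hx⟩ := x
            induction hx using Subring.closure_induction with
            | mem z hz => obtain ⟨c, hc, rfl⟩ := hz; show ρ V H g * ρ V H c = ρ V H c * ρ V H g; rw [← map_mul, ← map_mul, hg c hc]
            | zero => rw [mul_zero, zero_mul]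
            | one => rw [mul_one, one_mul]
            | add s t _ _ hs ht => simp only at hs ht ⊢; rw [mul_add, add_mul, hs, ht]
            | neg s _ hs => simp only at hs ⊢; rw [mul_neg, neg_mul, hs]
            | mul s t _ _ hs ht => simp only at hs ht ⊢; rw [← mul_assoc, hs, mul_assoc, ht, mul_assoc]
          rw [h, mul_assoc, ← map_mul, mul_inv_cancel, map_one, mul_one])
        faithful := hf } hexp hcop hV hv⟩
  push Not at hfd
  obtain ⟨B, hB, hBc, hnf⟩ := hfd
  obtain ⟨ι, hι, act, E, i0, hidem, horth, hsum, heq, htr, hne, j, hj⟩ := exists_idempotents hirr B hB hBc hnf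
  -- coarsen to a primitive permutation action
  have hst : stabilizer H i0 ≠ ⊤ := fun h => by
    obtain ⟨g, hg⟩ := htr j
    have : g ∈ stabilizer H i0 := h ▸ Subgroup.mem_top g
    exact hj (hg.symm.trans this)
  obtain ⟨M, hM, hle⟩ := (eq_top_or_exists_le_coatom (stabilizer H i0)).resolve_left hst
  choose sec hsec using htr
  let π : ι → H ⧸ M := fun i => (sec i : H ⧸ M)
  have hπ : ∀ (g : H) i, π (g • i) = g • π i := fun g i => by
    show ((sec (g • i) : H) : H ⧸ M) = ((g * sec i : H) : H ⧸ M)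
    refine QuotientGroup.eq.2 (hle ?_)
    rw [mem_stabilizer_iff, mul_smul, inv_smul_eq_iff, hsec, mul_smul, hsec]
  haveI := Fintype.ofFinite (H ⧸ M)
  let E' : H ⧸ M → AddMonoid.End V := fun q => ∑ i ∈ Finset.univ.filter (fun i => π i = q), E i
  have hE' : ∀ q v, E' q v = ∑ i ∈ Finset.univ.filter (fun i => π i = q), E i v := fun q v =>
    map_sum (AddMonoidHom.mk' (fun f : AddMonoid.End V => f v) fun _ _ => rfl) _ _
  have hEE : ∀ q i v, E' q (E i v) = if π i = q then E i v else 0 := fun q i v => by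
    rw [hE']
    split_ifs with h
    · rw [Finset.sum_eq_single i (fun k _ hk => horth k i hk v) (fun hh => absurd (by simp [h]) hh), hidem]
    · exact Finset.sum_eq_zero fun k hk => horth k i (fun e => h (by rw [← e]; exact (Finset.mem_filter.1 hk).2)) v
  have hidem' : ∀ q v, E' q (E' q v) = E' q v := fun q v => by
    conv_lhs => rw [hE' q v, map_sum]
    rw [hE' q v]
    exact Finset.sum_congr rfl fun i hi => by rw [hEE, if_pos (Finset.mem_filter.1 hi).2]
  have horth' : ∀ q r, q ≠ r → ∀ v, E' q (E' r v) = 0 := fun q r hqr v => by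
    rw [hE' r v, map_sum]
    exact Finset.sum_eq_zero fun i hi => by
      rw [hEE, if_neg (fun h => hqr (h.symm.trans (Finset.mem_filter.1 hi).2))]
  have hsum' : ∀ v, ∑ q, E' q v = v := fun v => by
    simp only [hE']
    rw [Finset.sum_fiberwise]
    exact hsum v
  have heq' : ∀ (g : H) q v, g • E' q v = E' (g • q) (g • v) := fun g q v => by
    rw [hE', hE', Finset.smul_sum]
    refine Finset.sum_equiv (MulAction.toPerm g) (fun i => ?_) fun i _ => heq g i v
    simp [hπ]
  let Vq : H ⧸ M → AddSubgroup V := fun q => (E' q).range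
  have hfix : ∀ q, ∀ z ∈ Vq q, E' q z = z := by rintro q _ ⟨w, rfl⟩; exact hidem' q w
  have hstab : ∀ q, ∀ g : stabilizer H q, ∀ z ∈ Vq q, g.1 • z ∈ Vq q := fun q g z hz => ⟨g.1 • z, by
    have := heq' g.1 q z
    rw [show g.1 • q = q from g.2, hfix q z hz] at this
    exact this.symm⟩
  have htrans : ∀ q q' : H ⧸ M, ∃ g : H, g • q = q' := fun q q' => exists_smul_eq H q q'
  have hcardeq : ∀ q q', Nat.card (Vq q) = Nat.card (Vq q') := fun q q' => by
    obtain ⟨g, rfl⟩ := htrans q q'
    exact Nat.card_congr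
      { toFun := fun z => ⟨g • z.1, g • z.1, (heq' g q z.1).symm.trans (congrArg (g • ·) (hfix q z.1 z.2))⟩
        invFun := fun z => ⟨g⁻¹ • z.1, g⁻¹ • z.1, by
          have := heq' g⁻¹ (g • q) z.1
          rw [inv_smul_smul, hfix _ z.1 z.2] at this
          exact this.symm⟩
        left_inv := fun z => Subtype.ext (inv_smul_smul g z.1)
        right_inv := fun z => Subtype.ext (smul_inv_smul g z.1) }
  let q0 : H ⧸ M := ((1 : H) : H ⧸ M)
  have hcardV : Nat.card V = ∏ q, Nat.card (Vq q) := by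
    rw [← Nat.card_pi]
    refine Nat.card_congr
      { toFun := fun v q => ⟨E' q v, v, rfl⟩
        invFun := fun f => ∑ q, (f q).1
        left_inv := fun v => hsum' v
        right_inv := fun f => funext fun q => Subtype.ext ?_ }
    show E' q (∑ r, (f r).1) = (f q).1
    rw [map_sum, Finset.sum_eq_single q (fun r _ hr => by rw [← hfix r _ (f r).2, horth' q r (Ne.symm hr)])
      (fun h => absurd (Finset.mem_univ q) h), hfix q _ (f q).2]
  obtain ⟨b, -, hb⟩ := (Nat.dvd_prime_pow hp).1 (hV ▸ (Vq q0).card_addSubgroup_dvd_card)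
  set r := Fintype.card (H ⧸ M) with hr
  have hab : a = r * b := by
    rw [hV, Finset.prod_congr rfl fun q _ => (hcardeq q q0).trans hb, Finset.prod_const, Finset.card_univ,
      ← pow_mul, mul_comm] at hcardV
    exact Nat.pow_right_injective hp.two_le hcardV
  have hb0 : 0 < b := Nat.pos_of_ne_zero fun e => by rw [e, mul_zero] at hab; omega
  have hr2 : 2 ≤ r := by
    rw [hr, ← Nat.card_eq_fintype_card]
    exact Subgroup.one_lt_index_of_ne_top hM.1
  have hblt : b < a := hab ▸ lt_mul_left hb0 hr2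
  -- the blocks
  let B0 := (toPermHom H (H ⧸ M)).ker
  haveI : Nontrivial (H ⧸ M) := Fintype.one_lt_card_iff_nontrivial.1 hr2
  haveI : IsPreprimitive H (H ⧸ M) :=
    (isCoatom_stabilizer_iff_preprimitive H q0).1 (by rw [stabilizer_quotient]; exact hM)
  let R := (toPermHom H (H ⧸ M)).range
  haveI : Group.IsSolvable R :=
    Group.isSolvable_of_surjective (toPermHom H (H ⧸ M)).rangeRestrict_surjective
  have hR : IsPreprimitive R (H ⧸ M) :=
    IsPreprimitive.of_surjective (φ := (toPermHom H (H ⧸ M)).rangeRestrict)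
      (f := { toFun := id, map_smul' := fun g x => rfl }) Function.surjective_id
  have hs := (prim_bound (G := R) hR).1
  rw [Nat.card_eq_fintype_card (α := H ⧸ M), ← hr] at hs
  have hidx : B0.index = Nat.card R := Subgroup.index_ker _
  choose v hv using fun q => key (stabilizer H q) (Vq q) (hstab q) b hblt ((hcardeq q q0).trans hb)
  letI actq : ∀ q, DistribMulAction (stabilizer H q) (Vq q) := fun q => subAction (Vq q) (hstab q)
  letI : ∀ q, DistribMulAction (toPermHom (stabilizer H q) (Vq q)).range (Vq q) := fun q =>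
    imgAction (A := stabilizer H q) (Ω := Vq q)
  let w : V := ∑ q, (v q).1
  have hproj : ∀ q, E' q w = (v q).1 := fun q => by
    rw [show w = ∑ q, (v q).1 from rfl, map_sum,
      Finset.sum_eq_single q (fun k _ hk => by rw [← hfix k _ (v k).2, horth' q k (Ne.symm hk)])
        (fun h => absurd (Finset.mem_univ q) h), hfix q _ (v q).2]
  refine ⟨w, ?_⟩
  let D := B0.subgroupOf (stabilizer H w)
  have hD : ∀ (x : D) q, x.1.1 • q = q := fun x q => Equiv.Perm.congr_fun x.2 q
  have hDv : ∀ (x : D) q, x.1.1 • (v q).1 = (v q).1 := fun x q => by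
    have h := heq' x.1.1 q w
    rw [hproj, show x.1.1 • w = w from x.1.2, hD x q, hproj] at h
    exact h
  have h1 : Nat.card D ≤ ∏ q, Nat.card (stabilizer (toPermHom (stabilizer H q) (Vq q)).range (v q)) := by
    rw [← Nat.card_pi]
    refine Nat.card_le_card_of_injective (fun x q =>
      (⟨(toPermHom (stabilizer H q) (Vq q)).rangeRestrict ⟨x.1.1, hD x q⟩, Subtype.ext (hDv x q)⟩ :
        stabilizer (toPermHom (stabilizer H q) (Vq q)).range (v q))) fun x y e => ?_
    refine Subtype.ext (Subtype.ext (inv_mul_eq_one.1 (hf _ fun z => ?_)).symm)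
    rw [mul_smul, inv_smul_eq_iff, ← hsum' z, Finset.smul_sum, Finset.smul_sum]
    refine Finset.sum_congr rfl fun q _ => ?_
    exact congrArg (fun u => ((u q).1.1 ⟨E' q z, z, rfl⟩).1) e
  have h2 : D.index ≤ Nat.card R := by
    rw [← hidx]
    haveI : B0.Normal := MonoidHom.normal_ker _
    exact Nat.le_of_dvd (Nat.pos_of_ne_zero Subgroup.index_ne_zero_of_finite)
      (Subgroup.relIndex_dvd_index_of_normal B0 (stabilizer H w))
  rw [← D.card_mul_index]
  calc Nat.card D * D.index ≤ (9 ^ (b - 1)) ^ r * 9 ^ (r - 1) := by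
        refine Nat.mul_le_mul (h1.trans ((Finset.prod_le_pow_card _ _ _ fun q _ => hv q).trans (le_of_eq ?_)))
          (h2.trans (le_nine_of_sq_le hr2 hs))
        rw [Finset.card_univ]
    _ = 9 ^ ((b - 1) * r + (r - 1)) := by rw [← pow_mul, pow_add]
    _ ≤ 9 ^ (a - 1) := Nat.pow_le_pow_right (by norm_num) (by
        obtain ⟨c, rfl⟩ : ∃ c, b = c + 1 := ⟨b - 1, by omega⟩
        rw [hab, Nat.add_sub_cancel, mul_add, mul_one, mul_comm c r]
        omega)

end Cfsg.Agent.BlockChar.SolvBound
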