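import Cfsg.Agent.Blocks.PrincipalPSolvable
import Cfsg.Agent.BlockChar.Contribution
import Cfsg.Agent.BlockChar.Tame.InvariantRank
import Cfsg.Agent.ProjExt.Ratio
import Cfsg.Agent.Fusion.SolvablePSolvable
import Cfsg.Agent.S3744
import Cfsg.Agent.S0133
import Cfsg.Agent.BlockChar.SolvBound.Linear

/-!
# The class number of a solvable group with a self-centralising elementary abelian normal Sylow subgroup
-/

set_option autoImplicit false
set_option maxHeartbeats 1000000

namespace Cfsg.Agent.BlockChar.SolvBound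

open Cfsg.Agent MulAction

universe u

variable {p : ℕ} [Fact p.Prime]

/-- A self-centralising normal `p`-subgroup leaves no normal `p'`-subgroup. -/
theorem pPrimeCore_eq_bot {G : Type u} [Group G] [Finite G] (N : Subgroup G) [hN : N.Normal]
    (hp : IsPGroup p N) (hc : Subgroup.centralizer (N : Set G) ≤ N) : Cfsg.pPrimeCore p G = ⊥ := by
  have hdis : Disjoint (Cfsg.pPrimeCore p G) N := by
    rw [disjoint_iff, Subgroup.eq_bot_iff_forall]
    intro x hx
    obtain ⟨k, hk⟩ := hp ⟨x, hx.2⟩
    have h1 : orderOf x ∣ p ^ k :=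
      orderOf_dvd_of_pow_eq_one (by simpa using congrArg Subtype.val hk)
    have h2 : orderOf x ∣ Nat.card (Cfsg.pPrimeCore p G) :=
      Subgroup.orderOf_dvd_natCard _ hx.1
    exact orderOf_eq_one_iff.1 (Nat.eq_one_of_dvd_coprimes
      ((Core.coprime_card_pPrimeCore (p := p) (G := G)).pow_right k) h2 h1)
  rw [Subgroup.eq_bot_iff_forall]
  intro x hx
  refine Subgroup.disjoint_def.1 hdis hx (hc (Subgroup.mem_centralizer_iff.2 fun n hn => ?_))
  exact (Subgroup.commute_of_normal_of_disjoint _ N inferInstance hN hdis x n hx hn).symm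

/-- Without a normal `p'`-subgroup a solvable group has one block, of full defect. -/
theorem principal_univ {G : Type u} [Group G] [Finite G] {M : Ideal Cfsg.AlgInt} (hM : Cfsg.IsPModular p M)
    (hsolv : Group.IsSolvable G) (hK : Cfsg.pPrimeCore p G = ⊥) :
    (∀ χ, χ ∈ Cfsg.principalBlock M G) ∧
      Cfsg.blockDefect p (Cfsg.principalBlock M G) = (Nat.card G).factorization p := by
  refine ⟨fun χ => (Blocks.mem_principalBlock_iff_of_isPSolvable hM
    (haveI := hsolv; Fusion.isPSolvable_of_isSolvable G) χ).2 fun n hn => ?_, ?_⟩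
  · rw [hK, Subgroup.mem_bot] at hn
    rw [hn]
  · have h1 : Cfsg.charDegree ((Blocks.triv G : Cfsg.IrrCharacter G) : G → ℂ) = 1 :=
      Blocks.charDegree_eq (n := 1) (by simp [Blocks.triv])
    rw [blockDefect_eq]
    have := minVal_le (p := p) (Blocks.triv_mem_principalBlock (G := G) hM)
    rw [h1, Nat.factorization_one, Finsupp.zero_apply] at this
    omega

/-- The class number is the number of characters of the block. -/
theorem card_principal {G : Type u} [Group G] [Finite G] {M : Ideal Cfsg.AlgInt}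
    (h : ∀ χ, χ ∈ Cfsg.principalBlock M G) :
    Nat.card (Cfsg.principalBlock M G) = Nat.card (ConjClasses G) := by
  rw [Set.eq_univ_of_forall h, Nat.card_congr (Equiv.Set.univ _)]
  exact S0133.result

/-- Characters have degree prime to `p` over an abelian normal Sylow subgroup. -/
theorem not_dvd_degree {G : Type u} [Group G] [Finite G] (N : Subgroup G) [N.Normal]
    (hab : ∀ a ∈ N, ∀ b ∈ N, a * b = b * a) (hidx : ¬ p ∣ N.index) (χ : Cfsg.IrrCharacter G) :
    ¬ p ∣ Cfsg.charDegree (χ : G → ℂ) := by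
  classical
  have := Fintype.ofFinite G
  have := Fintype.ofFinite N
  obtain ⟨θ, hθ⟩ := Char.exists_constituent_res (N := N) χ.2
  obtain ⟨k, hk, hdvd⟩ := ProjExt.exists_ratio_dvd_index χ.2 θ.2 hθ
  rw [Char.IsIrr.degree_one_of_comm θ.2 fun a b => Subtype.ext (hab a a.2 b b.2), mul_one] at hk
  rw [Blocks.charDegree_eq hk]
  exact fun h => hidx (h.trans hdvd)

/-- The bound for a self-centralising elementary abelian normal Sylow subgroup. -/
theorem sq_classes_le {G : Type u} [Group G] [Finite G] {M : Ideal Cfsg.AlgInt} (hM : Cfsg.IsPModular p M)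
    (hsolv : Group.IsSolvable G) (N : Subgroup G) [hN : N.Normal] (hNp : IsPGroup p N) (hidx : ¬ p ∣ N.index)
    (hab : ∀ a ∈ N, ∀ b ∈ N, a * b = b * a) (hexp : ∀ a ∈ N, a ^ p = 1)
    (hc : Subgroup.centralizer (N : Set G) ≤ N) {a : ℕ} (ha : Nat.card N = p ^ a) :
    Nat.card (ConjClasses G) ^ 2 ≤ p ^ (2 * a) * 9 ^ (a - 1) := by
  classical
  have hp : p.Prime := Fact.out
  have := Fintype.ofFinite G
  have hcop : (Nat.card N).Coprime N.index := by
    rw [ha]; exact ((hp.coprime_iff_not_dvd.2 hidx)).pow_left a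
  obtain ⟨H, hH⟩ := Subgroup.exists_right_complement'_of_coprime hcop
  have hHcard : Nat.card H = N.index := hH.symm.index_eq_card.symm
  letI : CommGroup N := { (inferInstance : Group N) with
    mul_comm := fun x y => Subtype.ext (hab x x.2 y y.2) }
  letI : DistribMulAction H (Additive N) :=
    { smul := fun g x => Additive.ofMul ⟨g.1 * x.toMul.1 * g.1⁻¹, hN.conj_mem _ x.toMul.2 _⟩
      one_smul := fun x => Additive.toMul.injective (Subtype.ext (by
        show (1 : G) * x.toMul.1 * (1 : G)⁻¹ = x.toMul.1; group))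
      mul_smul := fun g h x => Additive.toMul.injective (Subtype.ext (by
        show (g.1 * h.1) * x.toMul.1 * (g.1 * h.1)⁻¹ = g.1 * (h.1 * x.toMul.1 * h.1⁻¹) * g.1⁻¹; group))
      smul_zero := fun g => Additive.toMul.injective (Subtype.ext (by
        show g.1 * (1 : G) * g.1⁻¹ = 1; group))
      smul_add := fun g x y => Additive.toMul.injective (Subtype.ext (by
        show g.1 * (x.toMul.1 * y.toMul.1) * g.1⁻¹ = g.1 * x.toMul.1 * g.1⁻¹ * (g.1 * y.toMul.1 * g.1⁻¹)
        group)) }
  haveI : Group.IsSolvable H := by haveI := hsolv; infer_instance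
  have hsm : ∀ (g : H) (x : Additive N), ((g • x).toMul : G) = g.1 * x.toMul.1 * g.1⁻¹ := fun g x => rfl
  obtain ⟨v, hv⟩ := small_stabilizer p a (Additive N) H (fun g hg => by
      refine Subtype.ext (Subgroup.disjoint_def.1 hH.disjoint (hc (Subgroup.mem_centralizer_iff.2 fun n hn => ?_)) g.2)
      have h := hsm g (Additive.ofMul ⟨n, hn⟩)
      rw [hg] at h
      exact mul_inv_eq_iff_eq_mul.1 h.symm |>.symm)
    (fun x => Additive.toMul.injective (Subtype.ext (by simpa using hexp x.toMul.1 x.toMul.2)))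
    (by rw [hHcard]; exact (hp.coprime_iff_not_dvd.2 hidx).symm)
    ((Nat.card_congr Additive.toMul).trans ha)
  set y : G := v.toMul.1 with hy
  set C := Subgroup.centralizer ({y} : Set G) with hC
  have hmemC : ∀ g : G, g ∈ C ↔ y * g = g * y := fun g => Subgroup.mem_centralizer_singleton_iff.trans
    ⟨fun h => by rw [h], fun h => by rw [h]⟩
  have hNC : N ≤ C := fun n hn => (hmemC n).2 (hab y v.toMul.2 n hn)
  have hstab : Nat.card (H ⊓ C : Subgroup G) ≤ 9 ^ (a - 1) := by
    refine le_trans (le_of_eq (Nat.card_congr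
      { toFun := fun g => ⟨⟨g.1, g.2.1⟩, Additive.toMul.injective (Subtype.ext
          (mul_inv_eq_iff_eq_mul.2 ((hmemC g.1).1 g.2.2).symm))⟩
        invFun := fun g => ⟨g.1.1, g.1.2, (hmemC _).2
          (mul_inv_eq_iff_eq_mul.1 (congrArg (fun x : Additive N => (x.toMul : G)) g.2)).symm⟩
        left_inv := fun g => rfl
        right_inv := fun g => rfl } : Nat.card (H ⊓ C : Subgroup G) = Nat.card (stabilizer H v))) hv
  haveI : Fintype C := Fintype.ofFinite _
  set N' := N.subgroupOf C with hN'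
  haveI : N'.Normal := hN.subgroupOf C
  have hN'p : IsPGroup p N' := hNp.comap_of_injective C.subtype C.subtype_injective
  have hN'c : Subgroup.centralizer (N' : Set C) ≤ N' := fun g hg =>
    hc (Subgroup.mem_centralizer_iff.2 fun n hn =>
      congrArg Subtype.val (Subgroup.mem_centralizer_iff.1 hg ⟨n, hNC hn⟩ hn))
  have hCsolv : Group.IsSolvable C := by haveI := hsolv; infer_instance
  obtain ⟨hallG, hdefG⟩ := principal_univ hM hsolv (pPrimeCore_eq_bot N hNp hc)
  obtain ⟨hallC, hdefC⟩ := principal_univ (G := C) hM hCsolv (pPrimeCore_eq_bot N' hN'p hN'c)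
  set B := Cfsg.principalBlock M G
  have hB : Cfsg.IsPBlock M B := Blocks.isPBlock_principalBlock M
  have hGfac : (Nat.card G).factorization p = a := by
    rw [← N.card_mul_index, ha, Nat.factorization_mul (pow_ne_zero _ hp.ne_zero) Subgroup.index_ne_zero_of_finite,
      Finsupp.add_apply, hp.factorization_pow, Finsupp.single_eq_same,
      Nat.factorization_eq_zero_of_not_dvd hidx, add_zero]
  have hCidx : ¬ p ∣ N'.index := fun h => hidx (h.trans (Subgroup.relIndex_dvd_index_of_normal N C))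
  have hCfac : (Nat.card C).factorization p = a := by
    rw [← N'.card_mul_index, Nat.card_congr (Subgroup.subgroupOfEquivOfLe hNC).toEquiv, ha,
      Nat.factorization_mul (pow_ne_zero _ hp.ne_zero) Subgroup.index_ne_zero_of_finite,
      Finsupp.add_apply, hp.factorization_pow, Finsupp.single_eq_same,
      Nat.factorization_eq_zero_of_not_dvd hCidx, add_zero]
  obtain ⟨b, hind⟩ := (DefectThms.exists_inducing_iff hM hNp
    (sup_le hNC (hc.trans hNC)) (fun g _ => by rw [Subgroup.normalizer_eq_top]; exact Subgroup.mem_top g) hB).2 (by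
      obtain ⟨D, hD⟩ := DefectThms.exists_defectGroup hM hB
      exact ⟨D, hD, 1, by
        rw [DefectThms.map_conj_one]
        exact DefectThms.le_defectGroup_of_normal hM hB hD N hNp⟩)
  have hbdef : Cfsg.blockDefect p b = Cfsg.blockDefect p B := by
    have hb : b = Cfsg.principalBlock M C := by
      obtain ⟨ξ, hξ⟩ := Blocks.IsPBlock.nonempty hM hind.1
      rw [Blocks.IsPBlock.eq_blockOf hM hind.1 hξ,
        ← Blocks.IsPBlock.eq_blockOf hM (Blocks.isPBlock_principalBlock M) (hallC ξ)]
    rw [hb, hdefC, hdefG, hCfac, hGfac]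
  have hh : ∀ χ ∈ B, Cfsg.blockHeight p B ((χ : Cfsg.IrrCharacter G) : G → ℂ) = 0 := fun χ _ => by
    rw [blockHeight_eq, Nat.factorization_eq_zero_of_not_dvd (not_dvd_degree N hab hidx χ), Nat.zero_sub]
  have hsq := card_sq_le_of_heights_zero hM hB
    (by
      obtain ⟨k, hk⟩ := hNp v.toMul
      obtain ⟨j, -, hj⟩ := (Nat.dvd_prime_pow hp).1
        (orderOf_dvd_of_pow_eq_one (by simpa [hy] using congrArg Subtype.val hk) : orderOf y ∣ p ^ k)
      exact ⟨j, hj⟩) hmemC hind hbdef hh
  rw [card_principal hallG, hdefG, hGfac] at hsq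
  refine hsq.trans (Nat.mul_le_mul_left _ (le_trans ?_ hstab))
  -- the rank of the local block
  have hbot : ∀ χ ∈ b, Cfsg.classInner (fun n : (⊥ : Subgroup C) => (χ : Cfsg.IrrCharacter C).1 n)
      ((Blocks.triv (⊥ : Subgroup C)).1) ≠ 0 := fun χ _ => by
    rw [Cfsg.classInner, Fintype.sum_subsingleton _ (1 : (⊥ : Subgroup C))]
    simp [Blocks.triv, Char.IsIrr.one_ne_zero χ.2]
  haveI : Fintype (⊥ : Subgroup C) := Fintype.ofFinite _
  refine (Tame.blockRank_le_regular (Blocks.triv (⊥ : Subgroup C)) (fun g => funext fun n => rfl) b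
    (fun χ hχ => by convert hbot χ hχ using 4)).trans ?_
  let HC := (H ⊓ C).subgroupOf C
  have hHC : Nat.card HC = Nat.card (H ⊓ C : Subgroup G) :=
    Nat.card_congr (Subgroup.subgroupOfEquivOfLe inf_le_right).toEquiv
  have hHcop : (Nat.card HC).Coprime p := by
    rw [hHC]
    refine Nat.Coprime.coprime_dvd_left (Subgroup.card_dvd_of_le inf_le_left) ?_
    rw [hHcard]; exact (hp.coprime_iff_not_dvd.2 hidx).symm
  have hHidx : ∃ n, HC.index = p ^ n := by
    refine ⟨a, ?_⟩
    have hcomp : Subgroup.IsComplement' N' HC := by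
      refine Subgroup.isComplement'_of_disjoint_and_mul_eq_univ ?_ ?_
      · rw [Subgroup.disjoint_def]
        exact fun {x} h1 h2 => Subtype.ext (Subgroup.disjoint_def.1 hH.disjoint h1 h2.1)
      · refine Set.eq_univ_of_forall fun x => ?_
        obtain ⟨⟨n, h⟩, hnh, -⟩ := hH.existsUnique x.1
        have hnh' : (n : G) * (h : G) = x.1 := hnh
        have hhC : (h : G) ∈ C := by
          rw [show (h : G) = (n : G)⁻¹ * x.1 from eq_inv_mul_of_mul_eq hnh']
          exact C.mul_mem (C.inv_mem (hNC n.2)) x.2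
        exact ⟨⟨n.1, hNC n.2⟩, n.2, ⟨h.1, hhC⟩, ⟨h.2, hhC⟩, Subtype.ext hnh'⟩
    rw [hcomp.index_eq_card, Nat.card_congr (Subgroup.subgroupOfEquivOfLe hNC).toEquiv, ha]
  rw [← hHC]
  refine Nat.card_le_card_of_surjective
    (fun h : HC => ⟨ConjClasses.mk ((h.1 : C) : C ⧸ (⊥ : Subgroup C)), (h.1 : C ⧸ (⊥ : Subgroup C)), rfl,
      fun hdvd => ?_⟩) ?_
  · exact hp.coprime_iff_not_dvd.1 (hHcop.symm)
      (hdvd.trans ((orderOf_map_dvd (QuotientGroup.mk' _) h.1).trans (Subgroup.orderOf_dvd_natCard _ h.2)))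
  rintro ⟨c, q, rfl, hq⟩
  obtain ⟨x, rfl⟩ := QuotientGroup.mk_surjective q
  have hx : (Nat.card (Subgroup.zpowers x)).Coprime p := by
    rw [Nat.card_zpowers]
    refine (hp.coprime_iff_not_dvd.2 ?_).symm
    have : orderOf (x : C ⧸ (⊥ : Subgroup C)) = orderOf x :=
      orderOf_injective (QuotientGroup.quotientBot (G := C)).symm.toMonoidHom
        (QuotientGroup.quotientBot (G := C)).symm.injective x
    rwa [← this]
  obtain ⟨g, hg⟩ := (S3744.hall_psolvable C (haveI := hCsolv; Fusion.isPSolvable_of_isSolvable C)).2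
    (Subgroup.zpowers x) HC hx hHcop hHidx
  refine ⟨⟨g * x * g⁻¹, hg ⟨x, Subgroup.mem_zpowers x, rfl⟩⟩, Subtype.ext ?_⟩
  exact ConjClasses.mk_eq_mk_iff_isConj.2 (isConj_iff.2 ⟨(g : C ⧸ (⊥ : Subgroup C))⁻¹, by
    rw [QuotientGroup.mk_mul, QuotientGroup.mk_mul, QuotientGroup.mk_inv]; group⟩)

end Cfsg.Agent.BlockChar.SolvBound
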