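import Cfsg.Agent.Core.Frattini
import Cfsg.Agent.Core.PCore
import Cfsg.Agent.Core.Fitting
import Cfsg.Agent.S4201
import Cfsg.Agent.Char.Glauberman.Count
import Cfsg.Agent.BlockChar.SolvBound.Module

/-!
# The class number of a solvable group without normal `p'`-subgroups
-/

set_option autoImplicit false
set_option maxHeartbeats 1000000

namespace Cfsg.Agent.BlockChar.SolvBound

open Cfsg.Agent

universe u

variable {p : ℕ} [Fact p.Prime] {M : Ideal Cfsg.AlgInt}

/-- A normal Sylow subgroup contains every `p`-subgroup. -/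
theorem le_of_normal_sylow {G : Type u} [Group G] [Finite G] (N : Subgroup G) [N.Normal]
    (hidx : ¬ p ∣ N.index) {Q : Subgroup G} (hQ : IsPGroup p Q) : Q ≤ N := by
  intro x hx
  obtain ⟨k, hk⟩ := hQ ⟨x, hx⟩
  refine (QuotientGroup.eq_one_iff x).1 (orderOf_eq_one_iff.1 (Nat.eq_one_of_dvd_coprimes
    (((Fact.out : p.Prime).coprime_iff_not_dvd.2 hidx).pow_left k) ?_ ?_))
  · exact (orderOf_map_dvd (QuotientGroup.mk' N) x).trans
      (orderOf_dvd_of_pow_eq_one (by simpa using congrArg Subtype.val hk))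
  · rw [Subgroup.index_eq_card]
    exact orderOf_dvd_natCard _

/-- The bound with a self-centralising normal Sylow subgroup. -/
theorem sq_classes_le_of_sylow {G : Type u} [Group G] [Finite G] (hM : Cfsg.IsPModular p M)
    (hsolv : Group.IsSolvable G) (N : Subgroup G) [hN : N.Normal] (hNp : IsPGroup p N) (hidx : ¬ p ∣ N.index)
    (hc : Subgroup.centralizer (N : Set G) ≤ N) {a : ℕ} (ha : Nat.card N = p ^ a) :
    Nat.card (ConjClasses G) ^ 2 ≤ p ^ (2 * a) * 9 ^ (a - 1) := by
  classical
  have hp : p.Prime := Fact.out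
  have hFN : Cfsg.fittingSubgroup G = N := by
    refine le_antisymm ?_ (haveI := hNp.isNilpotent; Core.le_fittingSubgroup this)
    rw [Core.fittingSubgroup_eq_iSup_pCore]
    refine iSup_le fun q => ?_
    haveI := Fact.mk q.2
    by_cases hqp : (q : ℕ) = p
    · exact le_of_normal_sylow N hidx (hqp ▸ Core.pCore_isPGroup)
    · have hdis : Disjoint (Cfsg.pCore (q : ℕ) G) N :=
        IsPGroup.disjoint_of_ne _ _ hqp _ _ Core.pCore_isPGroup hNp
      intro x hx
      exact hc (Subgroup.mem_centralizer_iff.2 fun n hn =>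
        (Subgroup.commute_of_normal_of_disjoint _ N inferInstance hN hdis x n hx hn).symm)
  set D := frattini G
  have hDN : D ≤ N := hFN ▸ Core.le_fittingSubgroup frattini_nilpotent
  set f := QuotientGroup.mk' D with hf
  have hfs : Function.Surjective f := QuotientGroup.mk'_surjective D
  set N' := N.map f with hN'
  haveI : N'.Normal := hN.map f hfs
  have hN'F : Cfsg.fittingSubgroup (G ⧸ D) = N' := by
    rw [hN', ← hFN, ← Core.map_fittingSubgroup_frattini (le_refl (frattini G))]
  have hN'p : IsPGroup p N' := hNp.map f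
  have hN'idx : ¬ p ∣ N'.index := fun h => hidx (h.trans (Subgroup.index_map_dvd N hfs))
  have hN'ab : ∀ x ∈ N', ∀ y ∈ N', x * y = y * x := by
    rintro _ ⟨x, hx, rfl⟩ _ ⟨y, hy, rfl⟩
    haveI := hNp.isNilpotent
    have h : (⟨x, hx⟩ : N) * ⟨y, hy⟩ * (⟨x, hx⟩ : N)⁻¹ * (⟨y, hy⟩ : N)⁻¹ ∈ frattini N :=
      Core.commutator_le_frattini (Subgroup.commutator_mem_commutator (Subgroup.mem_top _) (Subgroup.mem_top _))
    have h1 : f (x * y * x⁻¹ * y⁻¹) = 1 :=
      (QuotientGroup.eq_one_iff _).2 (Core.frattini_le_of_normal N ⟨_, h, rfl⟩)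
    simp only [map_mul, map_inv] at h1
    exact mul_inv_eq_iff_eq_mul.1 (mul_inv_eq_one.1 h1)
  have hN'exp : ∀ x ∈ N', x ^ p = 1 := by
    rintro _ ⟨x, hx, rfl⟩
    rw [← map_pow]
    exact (QuotientGroup.eq_one_iff _).2
      (Core.frattini_le_of_normal N ⟨_, Core.pow_mem_frattini hNp ⟨x, hx⟩, rfl⟩)
  have hsolvQ : Group.IsSolvable (G ⧸ D) := by
    haveI := hsolv; exact Group.isSolvable_of_surjective hfs
  have hN'c : Subgroup.centralizer (N' : Set (G ⧸ D)) ≤ N' := by
    haveI := hsolvQ
    rw [← hN'F]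
    exact Core.centralizer_fittingSubgroup_le
  obtain ⟨i, hi⟩ := IsPGroup.iff_card.1 hN'p
  have hq := sq_classes_le hM hsolvQ N' hN'p hN'idx hN'ab hN'exp hN'c hi
  have hcard : Nat.card N = Nat.card D * Nat.card N' := by
    have e1 := (D.subgroupOf N).card_mul_index
    rw [Nat.card_congr (Subgroup.subgroupOfEquivOfLe hDN).toEquiv] at e1
    rw [← e1]
    congr 1
    rw [hN', hf, ← MonoidHom.restrict_range, ← Subgroup.index_ker, MonoidHom.ker_restrict, QuotientGroup.ker_mk']
  obtain ⟨c, -, hcD⟩ := (Nat.dvd_prime_pow hp).1 (ha ▸ Subgroup.card_dvd_of_le hDN)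
  have hsum : a = c + i := by
    rw [ha, hcD, hi, ← pow_add] at hcard
    exact Nat.pow_right_injective hp.two_le hcard
  have hD : Nat.card (ConjClasses D) ≤ p ^ c :=
    hcD ▸ Nat.card_le_card_of_surjective _ ConjClasses.mk_surjective
  refine (Nat.pow_le_pow_left ((S4201.result D).trans (Nat.mul_le_mul_right _ hD)) 2).trans ?_
  rw [mul_pow, hsum, Nat.mul_add, pow_add, ← pow_mul, mul_comm c 2, mul_assoc]
  refine Nat.mul_le_mul_left _ (hq.trans (Nat.mul_le_mul_left _ (Nat.pow_le_pow_right (by norm_num) (by omega))))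

theorem classes_le_of_sq {k p a : ℕ} (h : k ^ 2 ≤ p ^ (2 * a) * 9 ^ (a - 1)) : k ≤ 3 ^ (a - 1) * p ^ a := by
  refine (Nat.pow_le_pow_iff_left two_ne_zero).1 (h.trans (le_of_eq ?_))
  rw [mul_pow, ← pow_mul, ← pow_mul, mul_comm a 2, show (3 : ℕ) ^ ((a - 1) * 2) = 9 ^ (a - 1) by
    rw [mul_comm, pow_mul]; norm_num, mul_comm]

/-- The bound without normal `p'`-subgroups. -/
theorem classes_le (hM : Cfsg.IsPModular p M) : ∀ (n : ℕ) (G : Type u) [Group G] [Finite G],
    Nat.card G = n → Group.IsSolvable G → Cfsg.pPrimeCore p G = ⊥ →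
    Nat.card (ConjClasses G) ≤ 3 ^ ((Nat.card G).factorization p - 1) * p ^ (Nat.card G).factorization p := by
  intro n
  induction n using Nat.strong_induction_on with
  | _ n ih =>
  intro G _ _ hn hsolv hK
  classical
  have hp : p.Prime := Fact.out
  rcases subsingleton_or_nontrivial G with hG | hG
  · rw [Nat.card_of_subsingleton (1 : G)]
    simp only [Nat.factorization_one, Finsupp.zero_apply, Nat.zero_sub, pow_zero, mul_one]
    exact Finite.card_le_one_iff_subsingleton.2 ⟨fun x y => by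
      obtain ⟨x, rfl⟩ := ConjClasses.mk_surjective x
      obtain ⟨y, rfl⟩ := ConjClasses.mk_surjective y
      rw [Subsingleton.elim x y]⟩
  set N := Cfsg.pCore p G with hN
  have hNp : IsPGroup p N := Core.pCore_isPGroup
  have hsc : Subgroup.centralizer (N : Set G) ≤ N := Layer.pCoreSelfCentral_of_isPSolvable
    (haveI := hsolv; Fusion.isPSolvable_of_isSolvable G) hK
  have hNne : N ≠ ⊥ := fun h => by
    rw [h] at hsc
    obtain ⟨x, hx⟩ := exists_ne (1 : G)
    exact hx ((Subgroup.mem_bot).1 (hsc (Subgroup.mem_centralizer_iff.2 fun y hy => by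
      rw [SetLike.mem_coe, Subgroup.mem_bot] at hy
      rw [hy, one_mul, mul_one])))
  obtain ⟨a, ha⟩ := IsPGroup.iff_card.1 hNp
  have ha0 : 0 < a := Nat.pos_of_ne_zero fun e => hNne (Subgroup.eq_bot_of_card_eq N (by rw [ha, e, pow_zero]))
  set f := QuotientGroup.mk' N with hf
  have hfs : Function.Surjective f := QuotientGroup.mk'_surjective N
  set R := Cfsg.pPrimeCore p (G ⧸ N) with hR
  set Y := R.comap f with hY
  haveI : Y.Normal := Subgroup.Normal.comap inferInstance f
  have hNY : N ≤ Y := fun x hx => by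
    rw [hY, Subgroup.mem_comap, hf, QuotientGroup.mk'_apply, (QuotientGroup.eq_one_iff x).2 hx]
    exact one_mem _
  have hrel : N.relIndex Y = Nat.card R := by
    conv_lhs => rw [← QuotientGroup.ker_mk' N, ← MonoidHom.comap_bot, hY, Subgroup.relIndex_comap,
      Subgroup.map_comap_eq_self_of_surjective hfs, Subgroup.relIndex_bot_left]
  have hidx : ¬ p ∣ (N.subgroupOf Y).index := fun h => Core.not_dvd_card_pPrimeCore (show p ∣ Nat.card R by rw [← hrel]; exact h)
  have hcardN : Nat.card (N.subgroupOf Y) = p ^ a :=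
    (Nat.card_congr (Subgroup.subgroupOfEquivOfLe hNY).toEquiv).trans ha
  have hsY : Group.IsSolvable Y := by haveI := hsolv; infer_instance
  haveI : (N.subgroupOf Y).Normal := (inferInstance : N.Normal).subgroupOf Y
  have hkY := classes_le_of_sq (sq_classes_le_of_sylow hM hsY (N.subgroupOf Y)
    (hNp.comap_of_injective Y.subtype Y.subtype_injective) hidx (fun g hg =>
      hsc (Subgroup.mem_centralizer_iff.2 fun x hx =>
        congrArg Subtype.val (Subgroup.mem_centralizer_iff.1 hg ⟨x, hNY hx⟩ hx))) hcardN)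
  have hRmap : Y.map f = R := Subgroup.map_comap_eq_self_of_surjective hfs R
  have e : G ⧸ Y ≃* (G ⧸ N) ⧸ R :=
    (QuotientGroup.quotientQuotientEquivQuotient N Y hNY).symm.trans (QuotientGroup.quotientMulEquivOfEq hRmap)
  have hKQ : Cfsg.pPrimeCore p (G ⧸ Y) = ⊥ := by
    rw [← Core.map_pPrimeCore e.symm]; erw [Core.pPrimeCore_quotient_eq_bot]; rw [Subgroup.map_bot]
  have hYfac : (Nat.card Y).factorization p = a := by
    rw [← (N.subgroupOf Y).card_mul_index, hcardN,
      Nat.factorization_mul (pow_ne_zero _ hp.ne_zero) Subgroup.index_ne_zero_of_finite,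
      Finsupp.add_apply, hp.factorization_pow, Finsupp.single_eq_same,
      Nat.factorization_eq_zero_of_not_dvd hidx, add_zero]
  have hfac : (Nat.card G).factorization p = a + (Nat.card (G ⧸ Y)).factorization p := by
    rw [← Y.card_mul_index, Nat.factorization_mul Nat.card_pos.ne' Subgroup.index_ne_zero_of_finite,
      Finsupp.add_apply, hYfac, Subgroup.index_eq_card]
  have hlt : Nat.card (G ⧸ Y) < n := by
    rw [← hn, Subgroup.card_eq_card_quotient_mul_card_subgroup Y]
    refine lt_mul_of_one_lt_right Nat.card_pos ?_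
    exact (Nat.one_lt_pow ha0.ne' hp.one_lt).trans_le (ha ▸ Subgroup.card_le_of_le hNY)
  have hQ := ih _ hlt (G ⧸ Y) rfl (by haveI := hsolv; exact Group.isSolvable_of_surjective (QuotientGroup.mk'_surjective Y)) hKQ
  rw [hfac]
  generalize (Nat.card (G ⧸ Y)).factorization p = d at hQ ⊢
  refine (S4201.result Y).trans ((Nat.mul_le_mul hkY hQ).trans ?_)
  rw [mul_mul_mul_comm, ← pow_add, ← pow_add]
  exact Nat.mul_le_mul_right _ (Nat.pow_le_pow_right (by norm_num) (by omega))

end Cfsg.Agent.BlockChar.SolvBound
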