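import Cfsg.Agent.BlockChar.Tame.InvariantRank
import Cfsg.Agent.Char.Ortho

/-!
# The characters over an invariant character
-/

set_option autoImplicit false

namespace Cfsg.Agent.BlockChar.SolvBound

open Cfsg.Agent

universe u

variable {G : Type u} [Group G] [Fintype G] {K : Subgroup G} [hK : K.Normal] [Fintype K]

/-- There are no more characters over an invariant character than classes of the quotient. -/
theorem card_over_le (θ : Cfsg.IrrCharacter K) (hθ : ∀ g : G, Char.conjFun g (θ : K → ℂ) = θ)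
    (B : Set (Cfsg.IrrCharacter G))
    (hB : ∀ χ ∈ B, Cfsg.classInner (fun n : K => (χ : G → ℂ) n) (θ : K → ℂ) ≠ 0) :
    Nat.card B ≤ Nat.card (ConjClasses (G ⧸ K)) := by
  classical
  set ι := ConjClasses (G ⧸ K)
  have := Fintype.ofFinite ι
  have hrep : ∀ C : ι, ∃ g : G, ConjClasses.mk (g : G ⧸ K) = C := fun C => by
    obtain ⟨q, hq⟩ := ConjClasses.exists_rep C
    obtain ⟨g, rfl⟩ := QuotientGroup.mk_surjective q
    exact ⟨g, hq⟩
  choose g hg using hrep
  choose v hv using fun C : ι => Tame.exists_coset_function θ hθ (g C)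
  let pick : ι → G := fun C => if h : ∃ k ∈ K, v C (g C * k) ≠ 0 then g C * h.choose else g C
  let W : Submodule ℂ (G → ℂ) :=
    { carrier := {f | Cfsg.IsClassFunction G f ∧ ∀ C : ι, ∃ c : ℂ, ∀ k ∈ K, f (g C * k) = c * v C (g C * k)}
      zero_mem' := ⟨fun _ _ => rfl, fun _ => ⟨0, fun _ _ => by simp⟩⟩
      add_mem' := fun {f f'} ⟨h1, h3⟩ ⟨h1', h3'⟩ =>
        ⟨fun a b => by simp only [Pi.add_apply, h1 a b, h1' a b],
          fun C => by
            obtain ⟨c, hc⟩ := h3 C
            obtain ⟨c', hc'⟩ := h3' C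
            exact ⟨c + c', fun k hk => by rw [Pi.add_apply, hc k hk, hc' k hk, add_mul]⟩⟩
      smul_mem' := fun r f ⟨h1, h3⟩ =>
        ⟨fun a b => by simp only [Pi.smul_apply, h1 a b],
          fun C => by
            obtain ⟨c, hc⟩ := h3 C
            exact ⟨r * c, fun k hk => by rw [Pi.smul_apply, hc k hk, smul_eq_mul, mul_assoc]⟩⟩ }
  let E : W →ₗ[ℂ] (ι → ℂ) :=
    { toFun := fun f C => (f : G → ℂ) (pick C)
      map_add' := fun _ _ => rfl
      map_smul' := fun _ _ => rfl }
  have hinj : Function.Injective E := by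
    refine (injective_iff_map_eq_zero E).2 fun f hf0 => ?_
    obtain ⟨f, hcl, hcos⟩ := f
    refine Subtype.ext (funext fun w => ?_)
    show f w = 0
    set C : ι := ConjClasses.mk (w : G ⧸ K) with hC
    obtain ⟨t, ht⟩ := isConj_iff.1 (ConjClasses.mk_eq_mk_iff_isConj.1 (hg C).symm)
    obtain ⟨t, rfl⟩ := QuotientGroup.mk_surjective t
    obtain ⟨k, hk, he⟩ : ∃ k ∈ K, t * w * t⁻¹ = g C * k := by
      refine ⟨(g C)⁻¹ * (t * w * t⁻¹), ?_, by group⟩
      rw [← QuotientGroup.eq]
      exact ht.symm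
    rw [← hcl w t, he]
    obtain ⟨c, hc⟩ := hcos C
    have h0 : f (pick C) = 0 := congrFun hf0 C
    rw [hc k hk]
    by_cases hex : ∃ k ∈ K, v C (g C * k) ≠ 0
    · simp only [pick, dif_pos hex] at h0
      rw [hc _ hex.choose_spec.1, mul_eq_zero] at h0
      rw [h0.resolve_right hex.choose_spec.2, zero_mul]
    · push Not at hex
      rw [hex k hk, mul_zero]
  have := Fintype.ofFinite B
  let w : B → W := fun χ => ⟨(χ.1 : G → ℂ), Char.isClassFunction_of_isIrr χ.1.2, fun C => hv C χ.1 (hB χ.1 χ.2)⟩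
  have hli : LinearIndependent ℂ w := by
    refine LinearIndependent.of_comp W.subtype ?_
    exact Char.linearIndependent_irr.comp (fun χ : B => χ.1) Subtype.val_injective
  rw [Nat.card_eq_fintype_card (α := B), Nat.card_eq_fintype_card (α := ι)]
  refine (hli.fintype_card_le_finrank.trans (LinearMap.finrank_le_finrank_of_injective hinj)).trans (le_of_eq ?_)
  exact Module.finrank_fintype_fun_eq_card ℂ

end Cfsg.Agent.BlockChar.SolvBound
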