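import Cfsg.Agent.Blocks.FongReynolds
import Cfsg.Agent.Blocks.PrimeCoreBlock
import Cfsg.Agent.BlockChar.SolvBound.Classes
import Cfsg.Agent.BlockChar.SolvBound.Over

/-!
# The number of characters in a block of a solvable group
-/

set_option autoImplicit false
set_option maxHeartbeats 1000000

namespace Cfsg.Agent.BlockChar.SolvBound

open Cfsg.Agent

universe u

variable {p : ℕ} [Fact p.Prime] {M : Ideal Cfsg.AlgInt}

/-- A block of defect `d` of a solvable group has at most `3 ^ (d - 1) * p ^ d` characters. -/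
theorem card_block_le (hM : Cfsg.IsPModular p M) : ∀ (n : ℕ) (G : Type u) [Group G] [Finite G],
    Nat.card G = n → Group.IsSolvable G → ∀ B : Set (Cfsg.IrrCharacter G), Cfsg.IsPBlock M B →
    Nat.card B ≤ 3 ^ (Cfsg.blockDefect p B - 1) * p ^ Cfsg.blockDefect p B := by
  intro n
  induction n using Nat.strong_induction_on with
  | _ n ih =>
  intro G _ _ hn hsolv B hB
  classical
  have hp : p.Prime := Fact.out
  have := Fintype.ofFinite G
  set K := Cfsg.pPrimeCore p G with hK
  have := Fintype.ofFinite K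
  have hKp : ¬ p ∣ Nat.card K := Core.not_dvd_card_pPrimeCore
  obtain ⟨χ, hχ⟩ := Blocks.IsPBlock.nonempty hM hB
  obtain ⟨θ, hθ⟩ := Char.exists_constituent_res (N := K) χ.2
  by_cases hinv : ∀ g : G, Char.conjFun g (θ : K → ℂ) = θ
  · obtain ⟨B₀, hB₀, hiff, -, hdef, -⟩ := Blocks.exists_invariant_block_of_pConstrained hM
      (Layer.isPConstrained_of_isPSolvable (haveI := hsolv; Fusion.isPSolvable_of_isSolvable G)) hK θ hinv
    have heq : B₀ = B := by
      rw [Blocks.IsPBlock.eq_blockOf hM hB hχ, Blocks.IsPBlock.eq_blockOf hM hB₀ ((hiff χ).2 hθ)]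
    subst heq
    obtain ⟨D, hD⟩ := DefectThms.exists_defectGroup hM hB
    obtain ⟨S, hS⟩ := hdef D hD
    have hd : Cfsg.blockDefect p B₀ = (Nat.card (G ⧸ K)).factorization p := by
      have h := card_defectGroup hM hB hD
      rw [hS, S.card_eq_multiplicity] at h
      rw [← Nat.pow_right_injective hp.two_le h, ← K.card_mul_index,
        Nat.factorization_mul Nat.card_pos.ne' Subgroup.index_ne_zero_of_finite, Finsupp.add_apply,
        Nat.factorization_eq_zero_of_not_dvd hKp, zero_add, Subgroup.index_eq_card]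
    rw [hd]
    refine (card_over_le θ hinv B₀ fun φ hφ => (hiff φ).1 hφ).trans ?_
    exact classes_le hM _ (G ⧸ K) rfl
      (by haveI := hsolv; exact Group.isSolvable_of_surjective (QuotientGroup.mk'_surjective K))
      Core.pPrimeCore_quotient_eq_bot
  · set T := Char.inertia (θ : K → ℂ) with hT
    have := Fintype.ofFinite T
    have hKT : K ≤ T := Char.le_inertia (Char.isClassFunction_of_isIrr θ.2)
    let b : Set (Cfsg.IrrCharacter K) := Cfsg.blockOf M (θ : K → ℂ)
    have hb : Cfsg.IsPBlock M b := ⟨θ, rfl⟩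
    have hbθ : b = {θ} := Blocks.blockOf_eq_singleton_of_not_dvd hM hKp θ
    have hTiff : ∀ g : G, g ∈ T ↔ ∀ η ∈ b, ∀ η' : Cfsg.IrrCharacter K,
        (∀ m : K, (η' : K → ℂ) m = (η : K → ℂ)
          ⟨g * m * g⁻¹, (inferInstance : K.Normal).conj_mem m m.2 g⟩) → η' ∈ b := by
      intro g
      rw [hbθ, hT, Char.mem_inertia]
      constructor
      · intro hg η hη η' he
        rw [Set.mem_singleton_iff] at hη ⊢
        refine Subtype.ext (funext fun m => ?_)
        rw [he m, hη]
        exact congrFun hg m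
      · intro h
        have := h θ rfl ⟨Char.conjFun g (θ : K → ℂ), Char.isIrr_conjFun g θ.2⟩ fun m => rfl
        rw [Set.mem_singleton_iff] at this
        exact congrArg Subtype.val this
    obtain ⟨B', hB', hcov, hind⟩ := Blocks.exists_inducing hKT hM hb hTiff hB
      ⟨χ, hχ, θ, by rw [hbθ]; rfl, hθ⟩
    obtain ⟨B₁, hind₁, -, hirr, hmem⟩ := Blocks.exists_induced_block hKT hM hb hTiff hB' hcov
    obtain rfl := Blocks.induced_unique hM hind₁ hind
    obtain ⟨hD, -⟩ := Blocks.defect_and_heights hKT hM hb hTiff hB' hcov hind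
    have hle : Nat.card B₁ ≤ Nat.card B' :=
      Nat.card_le_card_of_surjective (fun ψ : B' => (⟨⟨_, hirr ψ.1 ψ.2⟩, (hmem _).2 ⟨ψ.1, ψ.2, rfl⟩⟩ : B₁))
        fun φ => by
          obtain ⟨ψ, hψ, he⟩ := (hmem φ.1).1 φ.2
          exact ⟨⟨ψ, hψ⟩, Subtype.ext (Subtype.ext he.symm)⟩
    obtain ⟨D, hDdef⟩ := DefectThms.exists_defectGroup hM hB'
    have hd : Cfsg.blockDefect p B' = Cfsg.blockDefect p B₁ := by
      have h1 := card_defectGroup hM hB' hDdef
      have h2 := card_defectGroup hM hB (hD D hDdef)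
      rw [← Nat.card_congr (D.equivMapOfInjective _ (Subgroup.subtype_injective T)).toEquiv, h1] at h2
      exact Nat.pow_right_injective hp.two_le h2
    have hlt : Nat.card T < n := by
      rw [← hn]
      refine lt_of_le_of_ne (Nat.le_of_dvd Nat.card_pos T.card_subgroup_dvd_card) fun h => hinv fun g => ?_
      have : g ∈ T := (Subgroup.eq_top_of_card_eq T h) ▸ Subgroup.mem_top g
      exact this
    have h := ih _ hlt T rfl (by haveI := hsolv; infer_instance) B' hB'
    rw [hd] at h
    exact hle.trans h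

end Cfsg.Agent.BlockChar.SolvBound
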